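import Mathlib

/-!
# Characteristic polynomials of endomorphisms of finite modules over domains
-/

set_option autoImplicit false

universe u

open TensorProduct Polynomial

namespace GrothLib.CharPolyInt

variable {A : Type u} [CommRing A] {K : Type u} [Field K] [Algebra A K]
  {E : Type u} [AddCommGroup E] [Module A E]

theorem isIntegral_coeff_of_roots {L : Type u} [Field L] [Algebra A L] {q : L[X]} (hq : q.Monic) (hs : q.Splits)
    (h : ∀ r ∈ q.roots, IsIntegral A r) (i : ℕ) : IsIntegral A (q.coeff i) := by
  have : q ∈ lifts (integralClosure A L).val.toRingHom := by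
    rw [hs.eq_prod_roots_of_monic hq]
    refine multiset_prod_mem _ fun p hp => ?_
    obtain ⟨r, hr, rfl⟩ := Multiset.mem_map.mp hp
    exact ⟨X - C ⟨r, h r hr⟩, by simp⟩
  obtain ⟨c, hc⟩ := (lifts_iff_coeff_lifts q).mp this i
  rw [← hc]
  exact c.2

/-- The coefficients of the characteristic polynomial are integral. -/
theorem isIntegral_charpoly_coeff [Module.Finite A E] (u : E →ₗ[A] E) (i : ℕ) :
    IsIntegral A (((u.baseChange K).charpoly).coeff i) := by
  obtain ⟨p, hpm, hp⟩ := LinearMap.exists_monic_and_aeval_eq_zero A u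
  let L := AlgebraicClosure K
  let v := (u.baseChange K).baseChange L
  have hv : aeval v p = 0 := by
    have h1 : aeval (u.baseChange K) p = 0 := by
      rw [show u.baseChange K = Module.End.baseChangeHom A K E u from rfl, aeval_algHom_apply, hp, map_zero]
    rw [show v = Module.End.baseChangeHom K L (K ⊗[A] E) (u.baseChange K) from rfl,
      ← aeval_map_algebraMap K, aeval_algHom_apply, aeval_map_algebraMap, h1, map_zero]
  rw [← isIntegral_algHom_iff (IsScalarTower.toAlgHom A K L) (algebraMap K L).injective,
    IsScalarTower.coe_toAlgHom', ← coeff_map, ← LinearMap.charpoly_baseChange]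
  refine isIntegral_coeff_of_roots (LinearMap.charpoly_monic v) (IsAlgClosed.splits _) (fun r hr => ?_) i
  have hr' := (Module.End.hasEigenvalue_iff_isRoot_charpoly v r).mpr (isRoot_of_mem_roots hr)
  obtain ⟨x, hx⟩ := hr'.exists_hasEigenvector
  have h2 := Module.End.aeval_apply_of_hasEigenvector (p := p.map (algebraMap A L)) hx
  rw [eval_map, aeval_map_algebraMap, hv, LinearMap.zero_apply] at h2
  exact ⟨p, hpm, ((smul_eq_zero.mp h2.symm).resolve_right hx.2)⟩

variable [IsFractionRing A K]

theorem isUnit_det_of_bijective [Module.Finite A E] (u : E →ₗ[A] E) (hu : Function.Bijective u) (a : A)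
    (ha : algebraMap A K a = LinearMap.det (u.baseChange K)) : IsUnit a := by
  let w := (LinearEquiv.ofBijective u hu).symm.toLinearMap
  have h : algebraMap A K a * LinearMap.det (w.baseChange K) = 1 := by
    rw [ha, ← map_mul, Module.End.mul_eq_comp, ← LinearMap.baseChange_comp]
    have : u.comp w = LinearMap.id := LinearMap.ext fun x => (LinearEquiv.ofBijective u hu).apply_symm_apply x
    rw [this, LinearMap.baseChange_id, LinearMap.det_id]
  have hint : IsIntegral A (LinearMap.det (w.baseChange K)) := by
    rw [LinearMap.det_eq_sign_charpoly_coeff]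
    exact ((isIntegral_one (R := A) (B := K)).neg.pow _).mul (isIntegral_charpoly_coeff w 0)
  let b : integralClosure A K := ⟨_, hint⟩
  have hb : algebraMap A (integralClosure A K) a * b = 1 := Subtype.ext h
  haveI : IsLocalHom (algebraMap A (integralClosure A K)) :=
    (algebraMap_isIntegral_iff.mpr inferInstance).isLocalHom fun x y hxy =>
      IsFractionRing.injective A K (congrArg Subtype.val hxy)
  exact IsLocalHom.map_nonunit a (IsUnit.of_mul_eq_one _ hb)

theorem bijective_of_isUnit_det [Module.IsTorsionFree A E] [IsDomain A] [Module.Finite A E] (u : E →ₗ[A] E)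
    (hcoeff : ∀ i : ℕ, ((u.baseChange K).charpoly).coeff i ∈ (algebraMap A K).range)
    (a : A) (ha : algebraMap A K a = LinearMap.det (u.baseChange K)) (hunit : IsUnit a) :
    Function.Bijective u := by
  obtain ⟨q, hq⟩ : (u.baseChange K).charpoly ∈ lifts (algebraMap A K) :=
    (lifts_iff_coeff_lifts _).mpr fun i => hcoeff i
  have hqu : aeval u q = 0 := by
    have h1 : aeval (u.baseChange K) q = 0 := by
      rw [← aeval_map_algebraMap K, show q.map (algebraMap A K) = _ from hq, LinearMap.aeval_self_charpoly]
    rw [show u.baseChange K = Module.End.baseChangeHom A K E u from rfl, aeval_algHom_apply] at h1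
    refine LinearMap.ext fun x => ?_
    have h2 : (TensorProduct.mk A K E 1) (aeval u q x) = 0 := by
      exact LinearMap.congr_fun h1 ((1 : K) ⊗ₜ[A] x)
    obtain ⟨c, hc⟩ := (IsLocalizedModule.eq_zero_iff (nonZeroDivisors A) (TensorProduct.mk A K E 1)).mp h2
    exact (smul_eq_zero.mp hc).resolve_left (nonZeroDivisors.ne_zero c.2)
  have h0 : IsUnit (q.coeff 0) := by
    have h : algebraMap A K a = algebraMap A K ((-1) ^ Module.finrank K (K ⊗[A] E) * q.coeff 0) := by
      rw [ha, LinearMap.det_eq_sign_charpoly_coeff, map_mul, map_pow, map_neg, map_one, ← coeff_map,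
        show q.map (algebraMap A K) = _ from hq]
    rw [IsFractionRing.injective A K h] at hunit
    exact isUnit_of_mul_isUnit_right hunit
  have h1 : u * aeval u q.divX + algebraMap A (Module.End A E) (q.coeff 0) = 0 := by
    rw [← hqu]
    have := congrArg (aeval u) (X_mul_divX_add q)
    rwa [map_add, map_mul, aeval_X, aeval_C] at this
  obtain ⟨z, hz⟩ := h0
  have hcomm : Commute u (aeval u q.divX) := Commute.symm (by
    simpa using (Commute.all q.divX X).map (aeval u))
  have key : u * (-(z⁻¹ : Aˣ).val • aeval u q.divX) = 1 ∧ (-(z⁻¹ : Aˣ).val • aeval u q.divX) * u = 1 := by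
    have h2 : u * aeval u q.divX = -algebraMap A (Module.End A E) (q.coeff 0) := eq_neg_of_add_eq_zero_left h1
    constructor
    · rw [mul_smul_comm, h2, ← hz, Algebra.algebraMap_eq_smul_one, smul_neg, neg_smul, neg_neg, smul_smul, Units.inv_mul,
        one_smul]
    · rw [smul_mul_assoc, ← hcomm.eq, h2, ← hz, Algebra.algebraMap_eq_smul_one, smul_neg, neg_smul, neg_neg, smul_smul,
        Units.inv_mul, one_smul]
  exact ⟨Function.LeftInverse.injective (g := ⇑(-(z⁻¹ : Aˣ).val • aeval u q.divX)) fun x => LinearMap.congr_fun key.2 x,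
    Function.RightInverse.surjective (g := ⇑(-(z⁻¹ : Aˣ).val • aeval u q.divX)) fun x => LinearMap.congr_fun key.1 x⟩

end GrothLib.CharPolyInt
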